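import Cfsg.Agent.MitchellThree.Residual.SevenFive.Data
import Cfsg.Agent.Known.PSUThreeFiveCert

/-!
Checks for the subgroup of order 168 in the set stabiliser of the unitary group over 25 elements.
-/

set_option autoImplicit false
set_option maxRecDepth 100000
set_option Elab.async false

namespace Cfsg.Lib.MitchellThree.Residual.SevenFive.Cert

open Cfsg.Lib.Known.UThreeFive.Cert (addC mulC cjC coord sets)

/-- A bit. -/
def bitB (x k : ℕ) : ℕ := x / 2 ^ k % 2

/-- An entry of a product over two elements. -/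
def entB (x y i j : ℕ) : ℕ :=
  (bitB x (3 * i) * bitB y j + bitB x (3 * i + 1) * bitB y (3 + j) + bitB x (3 * i + 2) * bitB y (6 + j)) % 2

/-- A product of nine-bit matrices. -/
def mulB (x y : ℕ) : ℕ :=
  entB x y 0 0 + 2 * entB x y 0 1 + 4 * entB x y 0 2 + 8 * entB x y 1 0 + 16 * entB x y 1 1 + 32 * entB x y 1 2 +
    64 * entB x y 2 0 + 128 * entB x y 2 1 + 256 * entB x y 2 2

/-- The transpose. -/
def trB (x : ℕ) : ℕ :=
  bitB x 0 + 2 * bitB x 3 + 4 * bitB x 6 + 8 * bitB x 1 + 16 * bitB x 4 + 32 * bitB x 7 + 64 * bitB x 2 +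
    128 * bitB x 5 + 256 * bitB x 8

/-- The determinant modulo two. -/
def detB (x : ℕ) : ℕ :=
  (bitB x 0 * bitB x 4 * bitB x 8 + bitB x 0 * bitB x 5 * bitB x 7 + bitB x 1 * bitB x 3 * bitB x 8 +
    bitB x 1 * bitB x 5 * bitB x 6 + bitB x 2 * bitB x 3 * bitB x 7 + bitB x 2 * bitB x 4 * bitB x 6) % 2

/-- An element. -/
def el (n : ℕ) : ℕ := elts.getD n 0

/-- A code of the image of an element. -/
def im (n i j : ℕ) : ℕ := Nat.land (Nat.shiftRight (images.getD n 0) (5 * (3 * i + j))) 31

/-- An entry of a product of images. -/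
def entM (n m i j : ℕ) : ℕ :=
  addC (addC (mulC (im n i 0) (im m 0 j)) (mulC (im n i 1) (im m 1 j))) (mulC (im n i 2) (im m 2 j))

/-- The place of a product with a generator. -/
def step (n s : ℕ) : ℕ := place.getD (mulB (el n) (gensTwo.getD s 0)) 0

/-- The place of a generator. -/
def genPlace (s : ℕ) : ℕ := place.getD (gensTwo.getD s 0) 0

theorem elts_ok : ((List.range 168).all fun n => Nat.blt (el n) 512 && Nat.beq (detB (el n)) 1) = true := by
  decide +kernel

theorem place_ok : ((List.range 512).all fun x => Nat.beq (detB x) 0 ||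
    (Nat.blt (place.getD x 0) 168 && Nat.beq (el (place.getD x 0)) x)) = true := by decide +kernel

theorem place_el : ((List.range 168).all fun n => Nat.beq (place.getD (el n) 0) n) = true := by decide +kernel

theorem gensTwo_ok : ((List.range 2).all fun s =>
    Nat.blt (gensTwo.getD s 0) 512 && Nat.beq (detB (gensTwo.getD s 0)) 1) = true := by decide +kernel

theorem preds_ok : ((List.range 168).all fun n => Nat.beq n 0 ||
    (Nat.blt (preds.getD n (0, 0)).1 n && Nat.blt (preds.getD n (0, 0)).2 2 &&
      Nat.beq (mulB (el (preds.getD n (0, 0)).1) (gensTwo.getD (preds.getD n (0, 0)).2 0)) (el n))) = true := by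
  decide +kernel

theorem one_ok : el 0 = 273 ∧ ((List.range 3).all fun i => (List.range 3).all fun j =>
    Nat.beq (im 0 i j) (if i = j then 5 else 0)) = true := by decide +kernel

theorem mul_ok : ((List.range 168).all fun n => (List.range 2).all fun s => (List.range 3).all fun i =>
    (List.range 3).all fun j => Nat.beq (entM n (genPlace s) i j) (im (step n s) i j)) = true := by decide +kernel

theorem im_lt : ((List.range 168).all fun n => (List.range 3).all fun i => (List.range 3).all fun j =>
    Nat.blt (im n i j) 25) = true := by decide +kernel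

/-- An entry of the product of the transpose of an image with its conjugate. -/
def entU (n i j : ℕ) : ℕ :=
  addC (addC (mulC (im n 0 i) (cjC (im n 0 j))) (mulC (im n 1 i) (cjC (im n 1 j))))
    (mulC (im n 2 i) (cjC (im n 2 j)))

/-- The determinant of an image. -/
def detM (n : ℕ) : ℕ :=
  addC (addC (addC (mulC (mulC (im n 0 0) (im n 1 1)) (im n 2 2))
    (mulC 20 (mulC (mulC (im n 0 0) (im n 1 2)) (im n 2 1))))
    (addC (mulC 20 (mulC (mulC (im n 0 1) (im n 1 0)) (im n 2 2))) (mulC (mulC (im n 0 1) (im n 1 2)) (im n 2 0))))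
    (addC (mulC (mulC (im n 0 2) (im n 1 0)) (im n 2 1)) (mulC 20 (mulC (mulC (im n 0 2) (im n 1 1)) (im n 2 0))))

theorem gen_unitary : ((List.range 2).all fun s => Nat.beq (detM (genPlace s)) 5 &&
    ((List.range 3).all fun i => (List.range 3).all fun j =>
      Nat.beq (entU (genPlace s) i j) (if i = j then 5 else 0))) = true := by decide +kernel

theorem injective_ok : ((List.range 168).all fun n => Nat.beq n 0 ||
    !((List.range 3).all fun i => (List.range 3).all fun j => Nat.beq (im n i j) (im 0 i j))) = true := by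
  decide +kernel

theorem conjs_ok : ((List.range 168).all fun n => Nat.blt (conjs.getD n (0, 0)).1 168 &&
    Nat.blt (conjs.getD n (0, 0)).2 6 &&
      Nat.beq (mulB (el n) (el (conjs.getD n (0, 0)).1))
        (mulB (el (conjs.getD n (0, 0)).1) (reps.getD (conjs.getD n (0, 0)).2 0))) = true := by decide +kernel

theorem centralizer_ok : ((List.range 168).all fun n =>
    !(Nat.beq (mulB (el n) (powers.getD 1 0)) (mulB (powers.getD 1 0) (el n))) ||
      (List.range 7).any fun i => Nat.beq (el n) (powers.getD i 0)) = true := by decide +kernel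

theorem powers_ok : powers.getD 0 0 = 273 ∧ powers.getD 1 0 = reps.getD 4 0 ∧ powers.getD 1 0 = gensTwo.getD 0 0 ∧
    powers.getD 1 0 ≠ 273 ∧ powers.getD 6 0 = reps.getD 5 0 ∧ ((List.range 7).all fun i =>
      Nat.beq (mulB (powers.getD i 0) (powers.getD 1 0)) (powers.getD ((i + 1) % 7) 0)) = true := by decide +kernel

/-- A conjugator. -/
def tw (k : ℕ) : ℕ := twists.getD k 0

theorem twists_ok : ((List.range 4).all fun k => Nat.blt (tw k) 512 && Nat.beq (detB (tw k)) 1) = true ∧
    mulB (tw 0) (powers.getD 1 0) = mulB (powers.getD 2 0) (tw 0) ∧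
    mulB (mulB (mulB (reps.getD 2 0) (tw 1)) (reps.getD 2 0)) 273 = tw 1 ∧
    mulB (mulB (mulB (reps.getD 3 0) (tw 2)) (reps.getD 3 0)) 273 = tw 2 ∧
    mulB (trB (powers.getD 6 0)) (tw 3) = mulB (tw 3) (powers.getD 6 0) := by decide +kernel

theorem reps_ok : reps.getD 0 0 = 273 ∧
    mulB (reps.getD 1 0) (reps.getD 1 0) = 273 ∧ reps.getD 1 0 ≠ 273 ∧
    mulB (mulB (reps.getD 2 0) (reps.getD 2 0)) (reps.getD 2 0) = 273 ∧ reps.getD 2 0 ≠ 273 ∧
    mulB (mulB (reps.getD 3 0) (reps.getD 3 0)) (mulB (reps.getD 3 0) (reps.getD 3 0)) = 273 ∧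
    mulB (reps.getD 3 0) (reps.getD 3 0) ≠ 273 ∧
    ((List.range 6).all fun k => Nat.blt (reps.getD k 0) 512 && Nat.beq (detB (reps.getD k 0)) 1) = true := by
  decide +kernel

/-- An entry of the combination for a matrix unit. -/
def entS (u i j : ℕ) : ℕ :=
  (List.range 9).foldl (fun s k => addC s (mulC ((spanCoef.getD u []).getD k 0) (im (spanIdx.getD k 0) i j))) 0

theorem span_ok : ((List.range 9).all fun u => (List.range 3).all fun i => (List.range 3).all fun j =>
    Nat.beq (entS u i j) (if 3 * i + j = u then 5 else 0)) = true ∧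
    ((List.range 9).all fun k => Nat.blt (spanIdx.getD k 0) 168) = true := by decide +kernel

theorem spanWord_ok : ((List.range 9).all fun k => Nat.blt (spanWord.getD k (0, 0)).1 7 &&
    Nat.blt (spanWord.getD k (0, 0)).2 3 && Nat.beq (el (spanIdx.getD k 0))
      (mulB (powers.getD (spanWord.getD k (0, 0)).1 0)
        ([273, tw 0, mulB (tw 0) (tw 0)].getD (spanWord.getD k (0, 0)).2 0))) = true := by decide +kernel

/-- The image of a point. -/
def ptImg (s i : ℕ) : ℕ := Nat.land (Nat.shiftRight (ptImgs.getD s 0) (15 * i)) 32767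

/-- An entry of the image of a point. -/
def entV (s i k : ℕ) : ℕ :=
  addC (addC (mulC (im (genPlace s) k 0) (coord i 0)) (mulC (im (genPlace s) k 1) (coord i 1)))
    (mulC (im (genPlace s) k 2) (coord i 2))

theorem stab_ok : ((List.range 2).all fun s => (List.range 651).all fun i => !((sets.getD 0 0).testBit i) ||
    (Nat.blt (ptImg s i % 1024) 651 && (sets.getD 0 0).testBit (ptImg s i % 1024) && Nat.blt 0 (ptImg s i / 1024) &&
      Nat.blt (ptImg s i / 1024) 25 && ((List.range 3).all fun k =>
        Nat.beq (entV s i k) (mulC (ptImg s i / 1024) (coord (ptImg s i % 1024) k))))) = true := by decide +kernel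

/-- Norms meet every non-zero real code. -/
theorem norm_ok : ((List.range 25).all fun c => !(Nat.beq (cjC c) c) || Nat.beq c 0 ||
    (List.range 25).any fun d => Nat.beq (mulC (mulC d (cjC d)) c) 5) = true := by decide +kernel

end Cfsg.Lib.MitchellThree.Residual.SevenFive.Cert
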