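import Cfsg.Agent.MitchellThree.Residual.SevenFive.Cert
import Mathlib.LinearAlgebra.Matrix.SpecialLinearGroup
import Mathlib.LinearAlgebra.Matrix.GeneralLinearGroup.Defs
import Mathlib.Data.ZMod.Basic

/-!
The special linear group of degree three over two elements through the nine-bit numbers of the certificate.
-/

set_option autoImplicit false
set_option maxRecDepth 100000

namespace Cfsg.Lib.MitchellThree.Residual.SevenFive

open Matrix Cert
open scoped MatrixGroups

local notation "MB" => Matrix (Fin 3) (Fin 3) (ZMod 2)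
local notation "SB" => Matrix.SpecialLinearGroup (Fin 3) (ZMod 2)

/-- The matrix of a number. -/
def matB (x : ℕ) : MB := fun i j => (bitB x (3 * i.val + j.val) : ZMod 2)

/-- The number of a matrix. -/
def code (A : MB) : ℕ :=
  (A 0 0).val + 2 * (A 0 1).val + 4 * (A 0 2).val + 8 * (A 1 0).val + 16 * (A 1 1).val + 32 * (A 1 2).val +
    64 * (A 2 0).val + 128 * (A 2 1).val + 256 * (A 2 2).val

theorem bitB_lt (x k : ℕ) : bitB x k < 2 := Nat.mod_lt _ two_pos

theorem natCast_val (a : ZMod 2) : ((a.val : ℕ) : ZMod 2) = a := ZMod.natCast_zmod_val a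

theorem bitB_pack (b₀ b₁ b₂ b₃ b₄ b₅ b₆ b₇ b₈ : ℕ) (h₀ : b₀ < 2) (h₁ : b₁ < 2) (h₂ : b₂ < 2) (h₃ : b₃ < 2)
    (h₄ : b₄ < 2) (h₅ : b₅ < 2) (h₆ : b₆ < 2) (h₇ : b₇ < 2) (h₈ : b₈ < 2) (k : ℕ) (hk : k < 9) :
    bitB (b₀ + 2 * b₁ + 4 * b₂ + 8 * b₃ + 16 * b₄ + 32 * b₅ + 64 * b₆ + 128 * b₇ + 256 * b₈) k =
      [b₀, b₁, b₂, b₃, b₄, b₅, b₆, b₇, b₈].getD k 0 := by
  interval_cases k <;> simp [bitB] <;> omega

theorem matB_code (A : MB) : matB (code A) = A := by
  ext i j
  show ((bitB (code A) (3 * i.val + j.val) : ℕ) : ZMod 2) = A i j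
  rw [code, bitB_pack _ _ _ _ _ _ _ _ _ (ZMod.val_lt _) (ZMod.val_lt _) (ZMod.val_lt _) (ZMod.val_lt _)
    (ZMod.val_lt _) (ZMod.val_lt _) (ZMod.val_lt _) (ZMod.val_lt _) (ZMod.val_lt _) _ (by omega)]
  fin_cases i <;> fin_cases j <;> simp [natCast_val]

theorem code_lt (A : MB) : code A < 512 := by
  have h := fun i j => ZMod.val_lt (A i j)
  have := h 0 0; have := h 0 1; have := h 0 2; have := h 1 0; have := h 1 1; have := h 1 2
  have := h 2 0; have := h 2 1; have := h 2 2
  simp only [code]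
  omega

theorem val_natCast_bit (x k : ℕ) : ((bitB x k : ℕ) : ZMod 2).val = bitB x k :=
  ZMod.val_cast_of_lt (bitB_lt x k)

theorem code_matB {x : ℕ} (hx : x < 512) : code (matB x) = x := by
  simp [code, matB, val_natCast_bit, bitB]
  omega

theorem matB_inj {x y : ℕ} (hx : x < 512) (hy : y < 512) (h : matB x = matB y) : x = y := by
  rw [← code_matB hx, h, code_matB hy]

theorem entB_lt (x y i j : ℕ) : entB x y i j < 2 := Nat.mod_lt _ two_pos

theorem mulB_lt (x y : ℕ) : mulB x y < 512 := by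
  have h := entB_lt x y
  have := h 0 0; have := h 0 1; have := h 0 2; have := h 1 0; have := h 1 1; have := h 1 2
  have := h 2 0; have := h 2 1; have := h 2 2
  simp only [mulB]
  omega

theorem matB_mulB (x y : ℕ) : matB (mulB x y) = matB x * matB y := by
  ext i j
  show ((bitB (mulB x y) (3 * i.val + j.val) : ℕ) : ZMod 2) = _
  rw [mulB, bitB_pack _ _ _ _ _ _ _ _ _ (entB_lt ..) (entB_lt ..) (entB_lt ..) (entB_lt ..) (entB_lt ..)
    (entB_lt ..) (entB_lt ..) (entB_lt ..) (entB_lt ..) _ (by omega)]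
  rw [Matrix.mul_apply, Fin.sum_univ_three]
  fin_cases i <;> fin_cases j <;> simp [entB, matB]

theorem matB_one : matB 273 = 1 := by decide +kernel

theorem matB_det (x : ℕ) : (matB x).det = (detB x : ZMod 2) := by
  rw [Matrix.det_fin_three]
  simp [matB, detB, ZMod.neg_eq_self_mod_two, sub_eq_add_neg]

theorem matB_trB (x : ℕ) : matB (trB x) = (matB x)ᵀ := by
  ext i j
  show ((bitB (trB x) (3 * i.val + j.val) : ℕ) : ZMod 2) = _
  rw [trB, bitB_pack _ _ _ _ _ _ _ _ _ (bitB_lt ..) (bitB_lt ..) (bitB_lt ..) (bitB_lt ..) (bitB_lt ..)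
    (bitB_lt ..) (bitB_lt ..) (bitB_lt ..) (bitB_lt ..) _ (by omega)]
  fin_cases i <;> fin_cases j <;> simp [matB]

/-- The element of a number. -/
noncomputable def slB (x : ℕ) : SB :=
  if h : detB x = 1 then ⟨matB x, by rw [matB_det, h, Nat.cast_one]⟩ else 1

theorem slB_val {x : ℕ} (h : detB x = 1) : (slB x : MB) = matB x :=
  congrArg Subtype.val (dif_pos h)

theorem detB_code (g : SB) : detB (code g) = 1 := by
  have h := matB_det (code g)
  rw [matB_code, g.2] at h
  have hlt : detB (code g) < 2 := Nat.mod_lt _ two_pos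
  have h' := congrArg ZMod.val h
  rw [ZMod.val_cast_of_lt hlt, ZMod.val_one] at h'
  exact h'.symm

theorem slB_code (g : SB) : slB (code g) = g := Subtype.ext (by rw [slB_val (detB_code g), matB_code])

/-- The place of an element. -/
def pl (g : SB) : ℕ := place.getD (code g) 0

theorem pl_spec (g : SB) : pl g < 168 ∧ el (pl g) = code g := by
  have h := List.all_eq_true.1 place_ok (code g) (List.mem_range.2 (code_lt g))
  simp only [Bool.or_eq_true, Bool.and_eq_true] at h
  rcases h with h | ⟨h1, h2⟩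
  · rw [detB_code g] at h
    exact absurd (Nat.eq_of_beq_eq_true h) one_ne_zero
  · exact ⟨Nat.le_of_ble_eq_true h1, Nat.eq_of_beq_eq_true h2⟩

/-- The element at a place. -/
noncomputable def sl (n : ℕ) : SB := slB (el n)

theorem el_spec {n : ℕ} (hn : n < 168) : el n < 512 ∧ detB (el n) = 1 := by
  have h := List.all_eq_true.1 elts_ok n (List.mem_range.2 hn)
  simp only [Bool.and_eq_true] at h
  exact ⟨Nat.le_of_ble_eq_true h.1, Nat.eq_of_beq_eq_true h.2⟩

theorem sl_pl (g : SB) : sl (pl g) = g := by rw [sl, (pl_spec g).2, slB_code]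

theorem code_sl {n : ℕ} (hn : n < 168) : code (sl n) = el n := by
  rw [sl, slB_val (el_spec hn).2, code_matB (el_spec hn).1]

theorem pl_sl {n : ℕ} (hn : n < 168) : pl (sl n) = n := by
  rw [pl, code_sl hn]
  exact Nat.eq_of_beq_eq_true (List.all_eq_true.1 place_el n (List.mem_range.2 hn))

theorem card_le : Nat.card SB ≤ 168 := by
  have h : Function.Surjective fun n : Fin 168 => sl n.val := fun g => ⟨⟨pl g, (pl_spec g).1⟩, sl_pl g⟩
  simpa using Nat.card_le_card_of_surjective _ h

theorem code_mul (g h : SB) : code (g * h : SB) = mulB (code g) (code h) :=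
  matB_inj (code_lt _) (mulB_lt _ _) (by rw [matB_mulB, matB_code, matB_code, matB_code]; rfl)

theorem code_one : code (1 : SB) = 273 := matB_inj (code_lt _) (by norm_num) (by rw [matB_code, matB_one]; rfl)

theorem slB_mul {x y : ℕ} (hx : x < 512) (hy : y < 512) (dx : detB x = 1) (dy : detB y = 1) :
    slB x * slB y = slB (mulB x y) := by
  rw [← slB_code (slB x * slB y), code_mul, slB_val dx, slB_val dy, code_matB hx, code_matB hy]

theorem slB_one : slB 273 = 1 := by rw [← code_one, slB_code]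

/-- The two generators. -/
noncomputable def gen (s : ℕ) : SB := slB (gensTwo.getD s 0)

theorem gen_spec {s : ℕ} (hs : s < 2) : code (gen s) = gensTwo.getD s 0 := by
  have h := List.all_eq_true.1 gensTwo_ok s (List.mem_range.2 hs)
  simp only [Bool.and_eq_true] at h
  rw [gen, slB_val (Nat.eq_of_beq_eq_true h.2), code_matB (Nat.le_of_ble_eq_true h.1)]

theorem pl_mul_gen (g : SB) {s : ℕ} (hs : s < 2) : pl (g * gen s) = step (pl g) s := by
  rw [pl, code_mul, gen_spec hs, step, (pl_spec g).2]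

theorem pl_gen {s : ℕ} (hs : s < 2) : pl (gen s) = genPlace s := by rw [pl, gen_spec hs]; rfl

theorem sl_zero : sl 0 = 1 := by rw [sl, one_ok.1, slB_one]

/-- Induction over words in the generators. -/
theorem gen_induction {p : SB → Prop} (h1 : p 1) (hmul : ∀ g, p g → ∀ s < 2, p (g * gen s)) (g : SB) : p g := by
  suffices h : ∀ n < 168, p (sl n) by
    rw [← sl_pl g]
    exact h _ (pl_spec g).1
  intro n
  induction n using Nat.strong_induction_on with
  | _ n ih =>
    intro hn
    have h := List.all_eq_true.1 preds_ok n (List.mem_range.2 hn)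
    simp only [Bool.or_eq_true, Bool.and_eq_true] at h
    rcases h with h | ⟨⟨h2, h3⟩, h4⟩
    · rw [Nat.eq_of_beq_eq_true h, sl_zero]; exact h1
    · have hlt := Nat.le_of_ble_eq_true h2
      have hs : (preds.getD n (0, 0)).2 < 2 := Nat.le_of_ble_eq_true h3
      have := hmul _ (ih _ hlt (lt_trans hlt hn)) _ hs
      rwa [← slB_code (sl _ * gen _), code_mul, code_sl (lt_trans hlt hn), gen_spec hs,
        Nat.eq_of_beq_eq_true h4] at this

theorem rep_spec {k : ℕ} (hk : k < 6) : code (slB (reps.getD k 0)) = reps.getD k 0 := by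
  have h := List.all_eq_true.1 reps_ok.2.2.2.2.2.2.2 k (List.mem_range.2 hk)
  simp only [Bool.and_eq_true] at h
  rw [slB_val (Nat.eq_of_beq_eq_true h.2), code_matB (Nat.le_of_ble_eq_true h.1)]

theorem tw_spec {k : ℕ} (hk : k < 4) : code (slB (tw k)) = tw k := by
  have h := List.all_eq_true.1 twists_ok.1 k (List.mem_range.2 hk)
  simp only [Bool.and_eq_true] at h
  rw [slB_val (Nat.eq_of_beq_eq_true h.2), code_matB (Nat.le_of_ble_eq_true h.1)]

theorem code_inj {g h : SB} (e : code g = code h) : g = h := by rw [← slB_code g, e, slB_code]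

/-- The element of order seven. -/
noncomputable def rA : SB := slB (reps.getD 4 0)

/-- An element conjugating it to its square. -/
noncomputable def bA : SB := slB (tw 0)

theorem code_rA : code rA = powers.getD 1 0 := (rep_spec (by norm_num)).trans powers_ok.2.1.symm

theorem code_rA_pow : ∀ i : ℕ, code ((rA ^ i : SB) : MB) = powers.getD (i % 7) 0 := by
  intro i
  induction i with
  | zero => rw [pow_zero, code_one]; exact powers_ok.1.symm
  | succ i ih =>
    rw [pow_succ, code_mul, ih, code_rA,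
      Nat.eq_of_beq_eq_true (List.all_eq_true.1 powers_ok.2.2.2.2.2 _ (List.mem_range.2 (Nat.mod_lt i (by norm_num)))),
      show (i % 7 + 1) % 7 = (i + 1) % 7 by omega]

theorem rA_pow_seven : rA ^ 7 = 1 := code_inj (by rw [code_rA_pow, code_one]; exact powers_ok.1)

theorem rA_ne_one : rA ≠ 1 := fun h => powers_ok.2.2.2.1 (by rw [← code_rA, h, code_one])

theorem rA_inv : rA⁻¹ = slB (reps.getD 5 0) := code_inj (by
  rw [rep_spec (by norm_num), ← powers_ok.2.2.2.2.1,
    inv_eq_of_mul_eq_one_left (a := rA ^ 6) (by rw [← pow_succ, rA_pow_seven]), code_rA_pow])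

theorem bA_rA : bA * rA = rA ^ 2 * bA := code_inj (by
  rw [code_mul, code_mul, code_rA, code_rA_pow, bA, tw_spec (by norm_num)]
  exact twists_ok.2.1)

theorem eq_pow_of_commute {g : SB} (h : g * rA = rA * g) : ∃ i, g = rA ^ i := by
  have hc := congrArg (fun x : SB => code x) h
  simp only [code_mul, code_rA] at hc
  have h1 := List.all_eq_true.1 centralizer_ok (pl g) (List.mem_range.2 (pl_spec g).1)
  simp only [(pl_spec g).2, Bool.or_eq_true, List.any_eq_true, List.mem_range] at h1
  rcases h1 with h1 | ⟨i, hi, h1⟩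
  · rw [hc] at h1
    simp at h1
  · exact ⟨i, code_inj (by rw [code_rA_pow, Nat.mod_eq_of_lt hi]; exact Nat.eq_of_beq_eq_true h1)⟩

theorem conj_rep (g : SB) : ∃ (y : SB) (k : ℕ), k < 6 ∧ g = y * slB (reps.getD k 0) * y⁻¹ := by
  have h := List.all_eq_true.1 conjs_ok (pl g) (List.mem_range.2 (pl_spec g).1)
  simp only [Bool.and_eq_true] at h
  obtain ⟨⟨h1, h2⟩, h3⟩ := h
  refine ⟨sl (conjs.getD (pl g) (0, 0)).1, (conjs.getD (pl g) (0, 0)).2, Nat.le_of_ble_eq_true h2, ?_⟩
  rw [eq_mul_inv_iff_mul_eq]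
  refine code_inj ?_
  rw [code_mul, code_mul, code_sl (Nat.le_of_ble_eq_true h1), rep_spec (Nat.le_of_ble_eq_true h2),
    ← (pl_spec g).2]
  exact Nat.eq_of_beq_eq_true h3

theorem rep_zero : slB (reps.getD 0 0) = 1 := by rw [reps_ok.1, slB_one]

theorem rep_two : slB (reps.getD 1 0) * slB (reps.getD 1 0) = 1 ∧ slB (reps.getD 1 0) ≠ 1 :=
  ⟨code_inj (by rw [code_mul, rep_spec (by norm_num), code_one]; exact reps_ok.2.1),
    fun h => reps_ok.2.2.1 (by rw [← rep_spec (k := 1) (by norm_num), h, code_one])⟩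

theorem rep_three : slB (reps.getD 2 0) ^ 3 = 1 ∧ slB (reps.getD 2 0) ≠ 1 ∧
    slB (tw 1) * slB (reps.getD 2 0) * (slB (tw 1))⁻¹ = (slB (reps.getD 2 0))⁻¹ := by
  refine ⟨code_inj ?_, fun h => reps_ok.2.2.2.2.1 (by rw [← rep_spec (k := 2) (by norm_num), h, code_one]), ?_⟩
  · rw [pow_succ, pow_two, code_mul, code_mul, rep_spec (by norm_num), code_one]
    exact reps_ok.2.2.2.1
  · rw [mul_inv_eq_iff_eq_mul, eq_inv_mul_iff_mul_eq, ← mul_assoc, ← mul_one (_ * _ * _)]
    refine code_inj ?_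
    rw [code_mul, code_mul, code_mul, rep_spec (by norm_num), tw_spec (by norm_num), code_one]
    exact twists_ok.2.2.1

theorem rep_four : slB (reps.getD 3 0) ^ 4 = 1 ∧ slB (reps.getD 3 0) * slB (reps.getD 3 0) ≠ 1 ∧
    slB (tw 2) * slB (reps.getD 3 0) * (slB (tw 2))⁻¹ = (slB (reps.getD 3 0))⁻¹ := by
  refine ⟨code_inj ?_, fun h => reps_ok.2.2.2.2.2.2.1 (by
    rw [← rep_spec (k := 3) (by norm_num), ← code_mul, h, code_one]), ?_⟩
  · rw [show (4 : ℕ) = 2 + 2 from rfl, pow_add, pow_two, code_mul, code_mul, rep_spec (by norm_num), code_one]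
    exact reps_ok.2.2.2.2.2.1
  · rw [mul_inv_eq_iff_eq_mul, eq_inv_mul_iff_mul_eq, ← mul_assoc, ← mul_one (_ * _ * _)]
    refine code_inj ?_
    rw [code_mul, code_mul, code_mul, rep_spec (by norm_num), tw_spec (by norm_num), code_one]
    exact twists_ok.2.2.2.1

/-- Inverse transpose. -/
def invTr : SB →* SB where
  toFun g := g⁻¹.transpose
  map_one' := Subtype.ext (by simp)
  map_mul' a b := Subtype.ext (by
    show (((a * b)⁻¹ : SB) : MB)ᵀ = ((a⁻¹ : SB) : MB)ᵀ * ((b⁻¹ : SB) : MB)ᵀ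
    rw [_root_.mul_inv_rev, Matrix.SpecialLinearGroup.coe_mul, Matrix.transpose_mul])

theorem invTr_invTr (g : SB) : invTr (invTr g) = g := by
  have h : ∀ y : SB, y.transpose⁻¹ = y⁻¹.transpose := fun y => inv_eq_of_mul_eq_one_right (Subtype.ext (by
    show (y : MB)ᵀ * ((y⁻¹ : SB) : MB)ᵀ = 1
    rw [← Matrix.transpose_mul, ← Matrix.SpecialLinearGroup.coe_mul, inv_mul_cancel,
      Matrix.SpecialLinearGroup.coe_one, Matrix.transpose_one]))
  show (g⁻¹.transpose)⁻¹.transpose = g
  rw [h, inv_inv]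
  exact Subtype.ext (Matrix.transpose_transpose _)

theorem invTr_rA : ∃ y : SB, invTr rA = y * rA⁻¹ * y⁻¹ := by
  refine ⟨slB (tw 3), ?_⟩
  rw [eq_mul_inv_iff_mul_eq]
  refine code_inj ?_
  rw [code_mul, code_mul, tw_spec (by norm_num), show code (invTr rA) = trB (code (rA⁻¹ : SB)) from ?_,
    rA_inv, rep_spec (by norm_num), ← powers_ok.2.2.2.2.1]
  · exact twists_ok.2.2.2.2
  · refine matB_inj (code_lt _) ?_ ?_
    · have h := bitB_lt (code (rA⁻¹ : SB))
      have := h 0; have := h 1; have := h 2; have := h 3; have := h 4; have := h 5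
      have := h 6; have := h 7; have := h 8
      simp only [trB]
      omega
    · rw [matB_code, matB_trB, matB_code]
      rfl

end Cfsg.Lib.MitchellThree.Residual.SevenFive
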