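import Cfsg.Agent.MitchellThree.Residual.SevenFive.Stab
import Cfsg.Agent.MitchellThree.Residual.Outcome

/-!
Over 25 elements a residual core of order 168 lies in a conjugate of the set stabiliser, so its normaliser in the
special unitary group is not maximal.
-/

set_option autoImplicit false
set_option maxRecDepth 100000
set_option linter.style.haveILetI false
set_option linter.unusedSectionVars false

namespace Cfsg.Lib.MitchellThree.Residual

open Matrix Cfsg.Geo Cfsg.Lib.MitchellThree.Residual.SevenFive Cfsg.Lib.Classical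
open scoped MatrixGroups

universe u

variable {F : Type u} [Field F] [Fintype F]

local notation "MM" => Matrix (Fin 3) (Fin 3) F
local notation "SB" => Matrix.SpecialLinearGroup (Fin 3) (ZMod 2)

theorem GU_matrix (hF : Fintype.card F = 5 ^ 2) {g : GL (Fin 3) F} (hg : g ∈ Cfsg.GU 3 F 5) :
    (g : MM)ᵀ * (g : MM).map (powConj hF) = 1 := by
  ext i j
  have h := hg (Pi.single i 1) (Pi.single j 1)
  simp only [Cfsg.hermForm, Units.coeHom_apply, Matrix.mulVec_single_one] at h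
  rw [Matrix.mul_apply]
  simp only [Matrix.transpose_apply, Matrix.map_apply, powConj_apply]
  refine h.trans ?_
  rw [Finset.sum_eq_single i (fun b _ hb => by rw [Pi.single_eq_of_ne hb, zero_mul]) (by simp),
    Pi.single_eq_same, one_mul, Matrix.one_apply]
  by_cases hij : i = j
  · subst hij
    rw [Pi.single_eq_same, one_pow, if_pos rfl]
  · rw [Pi.single_eq_of_ne hij, zero_pow (by norm_num : (5 : ℕ) ≠ 0), if_neg hij]

/-- The map from the group over two elements. -/
theorem Core.exists_param {P : Subgroup (GL (Fin 3) F)} (C : Core P)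
    (h : Nonempty (Quot3 P ≃* Matrix.ProjectiveSpecialLinearGroup (Fin 3) (ZMod 2))) :
    ∃ ψ : SB →* GL (Fin 3) F, Function.Injective ψ ∧ ψ.range = P := by
  classical
  obtain ⟨e⟩ := h
  haveI : Fact (Nat.Prime 7) := ⟨by norm_num⟩
  let K := GaloisField 7 1
  haveI : Fintype K := Fintype.ofFinite K
  have hK : Fintype.card K = 7 := by rw [← Nat.card_eq_fintype_card, GaloisField.card 7 1 one_ne_zero, pow_one]
  obtain ⟨e'⟩ := Cfsg.Lib.Classical.PSLSeven.psl_seven (K := ZMod 2) hK (by rw [ZMod.card])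
  have hker := C.ker_eq_bot_psl (K := K) (fun h3 => by
    haveI : CharP K 7 := inferInstance
    exact absurd ((CharP.cast_eq_zero_iff K 7 3).1 (by exact_mod_cast h3)) (by norm_num)) (e.trans e'.symm)
  let ep : P ≃* Quot3 P := MulEquiv.ofBijective (proj P) ⟨proj_injective hker, QuotientGroup.mk'_surjective _⟩
  let ψ : SB →* GL (Fin 3) F :=
    P.subtype.comp ((ep.trans e).symm.toMonoidHom.comp (QuotientGroup.mk' (Subgroup.center SB)))
  refine ⟨ψ, ?_, ?_⟩
  · refine P.subtype_injective.comp ((ep.trans e).symm.injective.comp ?_)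
    rw [← MonoidHom.ker_eq_bot_iff, QuotientGroup.ker_mk', Subgroup.eq_bot_iff_forall]
    intro g hg
    obtain ⟨r, hr, hg⟩ := Matrix.SpecialLinearGroup.mem_center_iff.1 hg
    have hr1 : r = 1 := (by decide : ∀ r : ZMod 2, r ^ Fintype.card (Fin 3) = 1 → r = 1) r hr
    refine Subtype.ext ?_
    rw [← hg, hr1, map_one]
    rfl
  · refine le_antisymm ?_ fun g hg => ?_
    · rintro _ ⟨x, rfl⟩
      exact SetLike.coe_mem _
    · obtain ⟨x, hx⟩ := ((ep.trans e).symm.surjective.comp (QuotientGroup.mk'_surjective _)) ⟨g, hg⟩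
      exact ⟨x, congrArg Subtype.val hx⟩

set_option maxHeartbeats 1600000 in
theorem Core.not_maximal_seven_five {P H : Subgroup (GL (Fin 3) F)} (C : Core P) (hR : IsResidualCore H P)
    (hF : Fintype.card F = 5 ^ 2) (hH : IsMaximalIn (Cfsg.GU 3 F 5 ⊓ specialLinear (Fin 3) F) H)
    (h : Nonempty (Quot3 P ≃* Matrix.ProjectiveSpecialLinearGroup (Fin 3) (ZMod 2))) : False := by
  classical
  haveI := Cfsg.Lib.Known.UThreeFive.charP_five hF
  haveI : Fact (Nat.Prime 5) := ⟨by norm_num⟩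
  have hHU := hH.1.le
  have hPU : P ≤ Cfsg.GU 3 F 5 ⊓ specialLinear (Fin 3) F := hR.le.trans hHU
  have hdet : ∀ {g : GL (Fin 3) F}, g ∈ specialLinear (Fin 3) F → DetOne g := fun {g} hg =>
    congrArg Units.val (MonoidHom.mem_ker.1 hg)
  have hρd : ∀ g, DetOne (rho hF g) := fun g => hdet (rho_mem hF g).2
  -- a parametrisation with matching traces
  obtain ⟨ψ, hψ, hψP, htA⟩ : ∃ ψ : SB →* GL (Fin 3) F,
      Function.Injective ψ ∧ ψ.range = P ∧ tr (ψ rA) = tr (rho hF rA) := by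
    obtain ⟨ψ, hψ, hψP⟩ := C.exists_param h
    obtain ⟨h1, htr⟩ := traces hF hψ fun g => C.det (hψP ▸ ⟨g, rfl⟩)
    obtain ⟨h2, -⟩ := traces hF (rho_injective hF) hρd
    have hroot : (tr (ψ rA) - tr (rho hF rA)) * (tr (ψ rA) + tr (rho hF rA) + 1) = 0 := by
      linear_combination h1 - h2
    rcases mul_eq_zero.1 hroot with e | e
    · exact ⟨ψ, hψ, hψP, sub_eq_zero.1 e⟩
    · have hinv : Function.Injective invTr := fun a b e => by rw [← invTr_invTr a, e, invTr_invTr]
      refine ⟨ψ.comp invTr, hψ.comp hinv, ?_, ?_⟩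
      · rw [MonoidHom.range_eq_map, ← Subgroup.map_map,
          Subgroup.map_top_of_surjective invTr fun g => ⟨invTr g, invTr_invTr g⟩, ← MonoidHom.range_eq_map, hψP]
      · obtain ⟨y, hy⟩ := invTr_rA
        show tr (ψ (invTr rA)) = _
        rw [hy, rA_inv, htr y 5 (by norm_num)]
        show -1 - tr (ψ rA) = tr (rho hF rA)
        linear_combination -e
  have hψm : ∀ g, ψ g ∈ P := fun g => hψP ▸ ⟨g, rfl⟩
  have hψd : ∀ g, DetOne (ψ g) := fun g => C.det (hψm g)
  set ψ₀ := rho hF with hψ₀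
  have hψ₀s : ∀ X : MM, X ∈ Submodule.span F (Set.range fun g => (ψ₀ g : MM)) := fun X =>
    Submodule.span_mono (by rintro _ ⟨w, rfl⟩; exact ⟨_, rfl⟩) (rho_span hF X)
  have hψ₀t : ∀ g, tr (ψ g) = tr (ψ₀ g) := eq_trace hF hψ hψd (rho_injective hF) hρd htA
  have hψ₀S : ∀ g, ψ₀ g ∈ stab hF := rho_stab hF
  have hψrep : ∀ X : MM, X ∈ Submodule.span F (Set.range fun g => (ψ g : MM)) := fun X => by
    refine Submodule.span_mono ?_ (natRep_span C.absIrred X)
    rintro _ ⟨⟨g, hg⟩, rfl⟩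
    rw [← hψP] at hg
    obtain ⟨x, rfl⟩ := hg
    exact ⟨x, rfl⟩
  obtain ⟨X₀, hX₀, hint⟩ := exists_intertwiner ((Units.coeHom MM).comp ψ₀) ((Units.coeHom MM).comp ψ)
    hψ₀t hψ₀s hψrep
  replace hint : ∀ g, (ψ g : MM) * X₀ = X₀ * (ψ₀ g : MM) := hint
  -- the form
  set σ := powConj hF
  have hinv := (powConj_isConj hF).invol
  set M := X₀ᵀ * X₀.map σ
  have hMc : ∀ g, (ψ₀ g : MM).map σ * M = M * (ψ₀ g : MM).map σ := fun g => by
    have h1 : (ψ₀ g : MM)ᵀ * M * (ψ₀ g : MM).map σ = M :=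
      calc (ψ₀ g : MM)ᵀ * M * (ψ₀ g : MM).map σ = (X₀ * (ψ₀ g : MM))ᵀ * (X₀ * (ψ₀ g : MM)).map σ := by
            simp only [M, Matrix.transpose_mul, Matrix.map_mul, Matrix.mul_assoc]
        _ = X₀ᵀ * ((ψ g : MM)ᵀ * (ψ g : MM).map σ) * X₀.map σ := by
            rw [← hint]; simp only [Matrix.transpose_mul, Matrix.map_mul, Matrix.mul_assoc]
        _ = M := by rw [GU_matrix hF (hPU (hψm g)).1, Matrix.mul_one]
    have h2 := mul_eq_one_comm.1 (GU_matrix hF (stab_le hF (hψ₀S g)).1)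
    conv_lhs => rw [← h1, ← Matrix.mul_assoc, ← Matrix.mul_assoc, h2, Matrix.one_mul]
  have hall : ∀ Y : MM, Y * M.map σ = M.map σ * Y := fun Y => by
    refine Submodule.span_induction ?_ ?_ ?_ ?_ (hψ₀s Y)
    · rintro _ ⟨g, rfl⟩
      have := congrArg (fun Z : MM => Z.map σ) (hMc g)
      simpa [Matrix.map_mul, Matrix.map_map, show (⇑σ ∘ ⇑σ : F → F) = id from funext hinv] using this
    · simp
    · intro a b _ _ ha hb; rw [add_mul, mul_add, ha, hb]
    · intro c a _ ha; rw [smul_mul_assoc, mul_smul_comm, ha]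
  obtain ⟨c', hc'⟩ : ∃ c', M.map σ = Matrix.scalar (Fin 3) c' :=
    (Matrix.mem_range_scalar_of_commute_single fun i j _ => hall (Matrix.single i j 1)).imp fun _ h => h.symm
  have hM : M = Matrix.scalar (Fin 3) (σ c') := by
    have := congrArg (fun Z : MM => Z.map σ) hc'
    simpa [Matrix.map_map, show (⇑σ ∘ ⇑σ : F → F) = id from funext hinv, Matrix.diagonal_map] using this
  set c := σ c'
  have hc0 : c ≠ 0 := fun e => by
    have : M.det = 0 := by rw [hM, e, map_zero, Matrix.det_zero]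
    rw [show M = X₀ᵀ * X₀.map σ from rfl, Matrix.det_mul, Matrix.det_transpose] at this
    rcases mul_eq_zero.1 this with h | h
    · exact hX₀ h
    · rw [show (X₀.map σ).det = σ X₀.det from (RingHom.map_det σ X₀).symm] at h
      exact hX₀ ((map_eq_zero σ).1 h)
  have hc5 : c ^ 5 = c := by
    rw [← powConj_apply hF]
    have h1 : σ (M 0 0) = M 0 0 := by
      simp only [M, Matrix.mul_apply, map_sum, map_mul, Matrix.transpose_apply, Matrix.map_apply]
      exact Finset.sum_congr rfl fun k _ => by rw [show σ (σ (X₀ k 0)) = X₀ k 0 from hinv _, mul_comm]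
    rwa [hM, Matrix.scalar_apply, Matrix.diagonal_apply_eq] at h1
  obtain ⟨d, hd⟩ := exists_norm hF hc5 hc0
  have hd0 : d ≠ 0 := fun e => by simp [e] at hd
  let X : GL (Fin 3) F := Matrix.GeneralLinearGroup.mkOfDetNeZero (d • X₀)
    (by rw [Matrix.det_smul]; exact mul_ne_zero (pow_ne_zero _ hd0) hX₀)
  have hXv : (X : MM) = d • X₀ := rfl
  have hXU : X ∈ Cfsg.GU 3 F 5 := mem_GU_of_eq hF (by
    rw [hXv, show ((d • X₀).map fun x => x ^ 5) = (d ^ 5) • X₀.map σ from ?_, Matrix.transpose_smul,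
      smul_mul_smul_comm, show X₀ᵀ * X₀.map σ = M from rfl, hM, Matrix.scalar_apply, ← Matrix.smul_one_eq_diagonal,
      smul_smul, hd, one_smul]
    ext i j
    simp [σ, powConj_apply, mul_pow])
  have hconj : ∀ g, ψ g = X * ψ₀ g * X⁻¹ := fun g => by
    rw [eq_mul_inv_iff_mul_eq]
    refine Units.ext ?_
    rw [Units.val_mul, Units.val_mul, hXv, Matrix.mul_smul, Matrix.smul_mul, hint]
  -- the overgroup
  set K := (stab hF).map (MulAut.conj X).toMonoidHom
  haveI : (specialLinear (Fin 3) F).Normal := MonoidHom.normal_ker _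
  have hKU : K ≤ Cfsg.GU 3 F 5 ⊓ specialLinear (Fin 3) F := by
    rintro _ ⟨g, hg, rfl⟩
    exact ⟨(Cfsg.GU 3 F 5).mul_mem ((Cfsg.GU 3 F 5).mul_mem hXU (stab_le hF hg).1) (inv_mem hXU),
      Subgroup.Normal.conj_mem inferInstance g (stab_le hF hg).2 X⟩
  have hψK : ∀ g, ψ g ∈ K := fun g => ⟨ψ₀ g, hψ₀S g, (hconj g).symm⟩
  -- the elements of the subgroup
  have hHZ : ∀ h ∈ H, ∃ (g : SB) (a : Fˣ),
      (h : GL (Fin 3) F) = ψ g * Matrix.GeneralLinearGroup.scalar (Fin 3) a := by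
    intro h hh
    have hex : ∀ g, ∃ g', ψ g' = h * ψ g * h⁻¹ := fun g => by
      have := hR.normal h hh _ (hψm g)
      rwa [← hψP] at this
    obtain ⟨a', ha'⟩ := hex rA
    obtain ⟨y, k, hk, rfl⟩ := conj_rep a'
    obtain ⟨ht, htr⟩ := traces hF hψ hψd
    obtain ⟨n3, n1, n0, n1', ns⟩ := trace_ne hF ht
    have hk4 : k = 4 := by
      have e := htr y k hk
      rw [ha', tr_conj] at e
      interval_cases k
      · exact absurd e n3
      · exact absurd e n1
      · exact absurd e n0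
      · exact absurd e n1'
      · rfl
      · exact absurd e ns
    subst hk4
    change ψ (y * rA * y⁻¹) = _ at ha'
    set h₁ := (ψ y)⁻¹ * h with hh₁
    have h₁H : h₁ ∈ H := mul_mem (inv_mem (hR.le (hψm y))) hh
    have e1 : h₁ * ψ rA * h₁⁻¹ = ψ rA := by
      calc h₁ * ψ rA * h₁⁻¹ = (ψ y)⁻¹ * (h * ψ rA * h⁻¹) * ψ y := by rw [hh₁]; group
        _ = ψ rA := by rw [← ha', map_mul, map_mul, map_inv]; group
    obtain ⟨w, hw⟩ : ∃ w, ψ w = h₁ * ψ bA * h₁⁻¹ := by
      have := hR.normal h₁ h₁H _ (hψm bA)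
      rwa [← hψP] at this
    have hwa : w * rA = rA ^ 2 * w := by
      refine hψ ?_
      rw [map_mul, map_mul, map_pow, hw]
      calc h₁ * ψ bA * h₁⁻¹ * ψ rA = h₁ * ψ bA * h₁⁻¹ * (h₁ * ψ rA * h₁⁻¹) := by rw [e1]
        _ = h₁ * (ψ bA * ψ rA) * h₁⁻¹ := by group
        _ = h₁ * (ψ rA ^ 2 * ψ bA) * h₁⁻¹ := by rw [← map_mul, bA_rA, map_mul, map_pow]
        _ = (h₁ * ψ rA * h₁⁻¹) ^ 2 * (h₁ * ψ bA * h₁⁻¹) := by rw [pow_two, pow_two]; group
        _ = _ := by rw [e1]
    obtain ⟨i, hi⟩ := eq_pow_of_commute (g := bA⁻¹ * w) (by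
      have : bA⁻¹ * rA ^ 2 = rA * bA⁻¹ := by
        rw [inv_mul_eq_iff_eq_mul, ← mul_assoc, bA_rA, mul_inv_cancel_right]
      rw [mul_assoc, hwa, ← mul_assoc, this, mul_assoc])
    rw [inv_mul_eq_iff_eq_mul] at hi
    set h₂ := ψ (rA ^ (2 * i)) * h₁ with hh₂
    have c1 : Commute h₂ (ψ rA) :=
      Commute.mul_left (by rw [map_pow]; exact (Commute.refl (ψ rA)).pow_left _) (mul_inv_eq_iff_eq_mul.1 e1)
    have c2 : Commute h₂ (ψ bA) := by
      have hsem : bA * rA ^ i = rA ^ (2 * i) * bA := by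
        rw [pow_mul]
        exact (show SemiconjBy bA rA (rA ^ 2) from bA_rA).pow_right i
      refine mul_inv_eq_iff_eq_mul.1 ?_
      calc h₂ * ψ bA * h₂⁻¹ = ψ (rA ^ (2 * i)) * (h₁ * ψ bA * h₁⁻¹) * (ψ (rA ^ (2 * i)))⁻¹ := by
            rw [hh₂]; group
        _ = ψ (rA ^ (2 * i) * w * (rA ^ (2 * i))⁻¹) := by rw [← hw, map_mul, map_mul, map_inv]
        _ = ψ bA := by
            congr 1
            rw [hi, hsem, ← mul_assoc, ← pow_add]
            have h7 : rA ^ (2 * i + 2 * i) * bA = bA * rA ^ (2 * i) := by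
              rw [show 2 * i + 2 * i = 2 * (2 * i) by ring, pow_mul]
              exact ((show SemiconjBy bA rA (rA ^ 2) from bA_rA).pow_right (2 * i)).symm
            rw [h7, mul_inv_cancel_right]
    -- the span of the Borel subgroup
    have hsc : ∀ Y : MM, Y * (h₂ : MM) = (h₂ : MM) * Y := by
      intro Y
      have hY : ((X⁻¹ : GL (Fin 3) F) : MM) * Y * (X : MM) ∈ Submodule.span F
          (Set.range fun w : ℕ × ℕ => (ψ₀ (rA ^ w.1 * bA ^ w.2) : MM)) := rho_span hF _
      have key : ∀ w : ℕ × ℕ, Commute (h₂ : MM) ((X : MM) * (ψ₀ (rA ^ w.1 * bA ^ w.2) : MM) * ((X⁻¹ : GL (Fin 3) F) : MM)) := by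
        intro w
        rw [← Units.val_mul, ← Units.val_mul, ← hconj, map_mul, map_pow, map_pow]
        exact ((c1.pow_right _).mul_right (c2.pow_right _)).map (Units.coeHom MM)
      have h3 : ∀ Z ∈ Submodule.span F (Set.range fun w : ℕ × ℕ => (ψ₀ (rA ^ w.1 * bA ^ w.2) : MM)),
          Commute (h₂ : MM) ((X : MM) * Z * ((X⁻¹ : GL (Fin 3) F) : MM)) := by
        intro Z hZ
        induction hZ using Submodule.span_induction with
        | mem x hx => obtain ⟨w, rfl⟩ := hx; exact key w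
        | zero => simp
        | add a b _ _ ha hb => rw [mul_add, add_mul]; exact ha.add_right hb
        | smul r a _ ha => rw [mul_smul_comm, smul_mul_assoc]; exact ha.smul_right r
      have h4 := h3 _ hY
      rw [show (X : MM) * (((X⁻¹ : GL (Fin 3) F) : MM) * Y * (X : MM)) * ((X⁻¹ : GL (Fin 3) F) : MM) = Y by
        simp [← mul_assoc]] at h4
      exact h4.symm.eq
    obtain ⟨a, ha⟩ : ∃ a, (h₂ : MM) = Matrix.scalar (Fin 3) a :=
      (Matrix.mem_range_scalar_of_commute_single fun i j _ => hsc (Matrix.single i j 1)).imp fun _ h => h.symm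
    have ha0 : a ≠ 0 := fun e => h₂.det_ne_zero (by rw [ha, e, map_zero, Matrix.det_zero])
    refine ⟨y * (rA ^ (2 * i))⁻¹, Units.mk0 a ha0, ?_⟩
    have h2s : h₂ = Matrix.GeneralLinearGroup.scalar (Fin 3) (Units.mk0 a ha0) := Units.ext ha
    rw [← h2s, hh₂, hh₁, map_mul, map_inv]
    group
  have hHK : H ≤ K := fun h hh => by
    obtain ⟨g, a, rfl⟩ := hHZ h hh
    refine mul_mem (hψK g) ?_
    have hz : Matrix.GeneralLinearGroup.scalar (Fin 3) a ∈ Cfsg.GU 3 F 5 ⊓ specialLinear (Fin 3) F := by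
      have := mul_mem (inv_mem (hPU (hψm g))) (hHU hh)
      rwa [inv_mul_cancel_left] at this
    refine ⟨_, scalar_mem hF hz (a := (a : F)) ?_, ?_⟩
    · simp [Matrix.GeneralLinearGroup.scalar, Matrix.smul_one_eq_diagonal]
    · show X * _ * X⁻¹ = _
      have hc : X * Matrix.GeneralLinearGroup.scalar (Fin 3) a = Matrix.GeneralLinearGroup.scalar (Fin 3) a * X :=
        Units.ext ((Matrix.scalar_commute (a : F) (fun r => Commute.all _ _) (X : MM)).symm.eq)
      rw [hc, mul_inv_cancel_right]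
  rcases hH.2 K hHK hKU with e | e
  · have h1 : 7560 ≤ Nat.card K := by
      rw [Nat.card_congr ((stab hF).equivMapOfInjective _ (MulAut.conj X).injective).toEquiv.symm]
      exact card_stab hF
    choose f a hfa using hHZ
    have h2 : Nat.card H ≤ Nat.card (SB × Fˣ) :=
      Nat.card_le_card_of_injective (fun x : H => (f x x.2, a x x.2))
        fun x x' e => Subtype.ext (by
          obtain ⟨e1, e2⟩ : f x x.2 = f x' x'.2 ∧ a x x.2 = a x' x'.2 := Prod.mk.injEq .. ▸ e
          rw [hfa x x.2, hfa x' x'.2, e1, e2])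
    rw [Nat.card_prod, Nat.card_units, Nat.card_eq_fintype_card (α := F), hF] at h2
    have h3 := Nat.mul_le_mul_right (5 ^ 2 - 1) SevenFive.card_le
    rw [e] at h1
    omega
  · obtain ⟨g, hg, hgn⟩ := exists_not_stab hF
    have : X * g * X⁻¹ ∈ K := e ▸ ⟨(Cfsg.GU 3 F 5).mul_mem ((Cfsg.GU 3 F 5).mul_mem hXU hg.1) (inv_mem hXU),
      Subgroup.Normal.conj_mem inferInstance g hg.2 X⟩
    obtain ⟨g', hg', e'⟩ := this
    change X * g' * X⁻¹ = X * g * X⁻¹ at e'
    rw [mul_left_inj, mul_right_inj] at e'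
    exact hgn (e' ▸ hg')

end Cfsg.Lib.MitchellThree.Residual
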