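import Cfsg.Agent.MitchellThree.Residual.SevenFive.Finite
import Cfsg.Agent.MitchellThree.Residual.Cubic
import Cfsg.Agent.Known.PSUThreeFiveExists

/-!
A representation of the group of order 168 inside the stabiliser of a set of points, and the traces of any faithful
representation of that group in determinant one over 25 elements.
-/

set_option autoImplicit false
set_option maxRecDepth 100000
set_option linter.style.haveILetI false
set_option linter.unusedSectionVars false

namespace Cfsg.Lib.MitchellThree.Residual.SevenFive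

open Matrix Cert Cfsg.Lib.Known Cfsg.Lib.Classical
open Cfsg.Lib.Known.UThreeFive.Cert (addC mulC cjC coord sets)
open scoped MatrixGroups

universe u

variable {F : Type u} [Field F] [Fintype F] (hF : Fintype.card F = 5 ^ 2)

local notation "SB" => Matrix.SpecialLinearGroup (Fin 3) (ZMod 2)
local notation "MM" => Matrix (Fin 3) (Fin 3) F

/-- The image at a place. -/
noncomputable def imM (n : ℕ) : MM := fun i j => UThreeFive.φ hF (im n i.val j.val)

theorem φ_twenty : UThreeFive.φ hF 20 = -1 := by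
  rw [show (20 : ℕ) = 5 * 4 + 0 from rfl, UThreeFive.φ_mk hF 4 0 (by norm_num)]
  push_cast
  linear_combination UThreeFive.five_zero hF

theorem φ_five_ite {p : Prop} [Decidable p] : UThreeFive.φ hF (if p then 5 else 0) = if p then 1 else 0 := by
  split
  · exact UThreeFive.φ_one hF
  · exact UThreeFive.φ_zero hF

theorem imM_zero : imM hF 0 = 1 := by
  ext i j
  show UThreeFive.φ hF (im 0 i.val j.val) = _
  rw [Nat.eq_of_beq_eq_true (List.all_eq_true.1 (List.all_eq_true.1 one_ok.2 i.val (List.mem_range.2 i.2)) j.val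
    (List.mem_range.2 j.2)), φ_five_ite hF, Matrix.one_apply]
  simp only [Fin.ext_iff]

theorem imM_step {n s : ℕ} (hn : n < 168) (hs : s < 2) : imM hF (step n s) = imM hF n * imM hF (genPlace s) := by
  ext i j
  have h := List.all_eq_true.1 (List.all_eq_true.1 (List.all_eq_true.1 (List.all_eq_true.1 mul_ok n
    (List.mem_range.2 hn)) s (List.mem_range.2 hs)) i.val (List.mem_range.2 i.2)) j.val (List.mem_range.2 j.2)
  show UThreeFive.φ hF (im (step n s) i.val j.val) = _
  rw [← Nat.eq_of_beq_eq_true h, entM, UThreeFive.φ_add, UThreeFive.φ_add, UThreeFive.φ_mul, UThreeFive.φ_mul,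
    UThreeFive.φ_mul, Matrix.mul_apply, Fin.sum_univ_three]
  rfl

theorem pl_one : pl (1 : SB) = 0 := by rw [← sl_zero, pl_sl (by norm_num)]

theorem imM_mul_gen (x : SB) {s : ℕ} (hs : s < 2) :
    imM hF (pl (x * gen s)) = imM hF (pl x) * imM hF (pl (gen s)) := by
  rw [pl_mul_gen x hs, imM_step hF (pl_spec x).1 hs, pl_gen hs]

/-- The representation. -/
noncomputable def rho : SB →* GL (Fin 3) F :=
  MonoidHom.toHomUnits
    { toFun := fun g => imM hF (pl g)
      map_one' := by rw [pl_one, imM_zero]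
      map_mul' := fun x y => by
        revert x
        refine gen_induction (p := fun y => ∀ x, imM hF (pl (x * y)) = imM hF (pl x) * imM hF (pl y)) ?_ ?_ y
        · intro x
          rw [mul_one, pl_one, imM_zero, mul_one]
        · intro g ih s hs x
          rw [← mul_assoc, imM_mul_gen hF _ hs, ih x, imM_mul_gen hF _ hs, mul_assoc] }

theorem rho_val (g : SB) : (rho hF g : MM) = imM hF (pl g) := rfl

theorem rho_injective : Function.Injective (rho hF) := by
  refine (injective_iff_map_eq_one _).2 fun g hg => ?_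
  have h := List.all_eq_true.1 injective_ok (pl g) (List.mem_range.2 (pl_spec g).1)
  simp only [Bool.or_eq_true, Bool.not_eq_true'] at h
  rcases h with h | h
  · rw [← sl_pl g, Nat.eq_of_beq_eq_true h, sl_zero]
  · exfalso
    rw [← Bool.not_eq_true] at h
    refine h (List.all_eq_true.2 fun i hi => List.all_eq_true.2 fun j hj => ?_)
    have he : imM hF (pl g) = imM hF 0 := by rw [← rho_val, hg, imM_zero]; rfl
    have hlt : ∀ n < 168, im n i j < 25 := fun n hn => Nat.le_of_ble_eq_true
      (List.all_eq_true.1 (List.all_eq_true.1 (List.all_eq_true.1 im_lt n (List.mem_range.2 hn)) i hi) j hj)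
    rw [UThreeFive.φ_inj hF (hlt _ (pl_spec g).1) (hlt 0 (by norm_num))
      (congrFun (congrFun he ⟨i, List.mem_range.1 hi⟩) ⟨j, List.mem_range.1 hj⟩)]
    simp

include hF in
theorem mem_GU_of_eq {g : GL (Fin 3) F} (h : (g : MM)ᵀ * (g : MM).map (fun x => x ^ 5) = 1) :
    g ∈ Cfsg.GU 3 F 5 := by
  intro u v
  haveI := UThreeFive.charP_five hF
  haveI : Fact (Nat.Prime 5) := ⟨by norm_num⟩
  have key : ∀ a b : Fin 3 → F, Cfsg.hermForm 3 F 5 a b = a ⬝ᵥ (fun i => b i ^ 5) := fun a b => rfl
  have hm : (fun i => ((g : MM) *ᵥ v) i ^ 5) = (g : MM).map (fun x => x ^ 5) *ᵥ fun i => v i ^ 5 := by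
    funext i
    exact RingHom.map_mulVec (frobenius F 5) (g : MM) v i
  show Cfsg.hermForm 3 F 5 ((g : MM) *ᵥ u) ((g : MM) *ᵥ v) = _
  rw [key, key, hm, Matrix.dotProduct_mulVec, ← Matrix.vecMul_transpose, Matrix.vecMul_vecMul, h,
    Matrix.vecMul_one]

theorem gen_mem {s : ℕ} (hs : s < 2) :
    rho hF (gen s) ∈ Cfsg.GU 3 F 5 ⊓ Cfsg.Geo.specialLinear (Fin 3) F := by
  have h := List.all_eq_true.1 gen_unitary s (List.mem_range.2 hs)
  simp only [Bool.and_eq_true] at h
  refine ⟨mem_GU_of_eq hF ?_, MonoidHom.mem_ker.2 (Units.ext ?_)⟩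
  · rw [rho_val, pl_gen hs]
    ext i j
    have h' := List.all_eq_true.1 (List.all_eq_true.1 h.2 i.val (List.mem_range.2 i.2)) j.val (List.mem_range.2 j.2)
    have h'' := congrArg (UThreeFive.φ hF) (Nat.eq_of_beq_eq_true h')
    rw [entU, φ_five_ite hF, UThreeFive.φ_add, UThreeFive.φ_add, UThreeFive.φ_mul, UThreeFive.φ_mul,
      UThreeFive.φ_mul, UThreeFive.φ_cj, UThreeFive.φ_cj, UThreeFive.φ_cj, UThreeFive.σ_apply hF,
      UThreeFive.σ_apply hF, UThreeFive.σ_apply hF] at h''
    rw [Matrix.mul_apply, Fin.sum_univ_three, Matrix.one_apply]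
    simp only [Fin.ext_iff]
    exact h''
  · rw [Matrix.GeneralLinearGroup.val_det_apply, rho_val, pl_gen hs, Matrix.det_fin_three, Units.val_one]
    have h'' := congrArg (UThreeFive.φ hF) (Nat.eq_of_beq_eq_true h.1)
    simp only [detM, UThreeFive.φ_add, UThreeFive.φ_mul, φ_twenty, UThreeFive.φ_one] at h''
    simp only [imM, Fin.val_zero, Fin.val_one, Fin.val_two]
    linear_combination h''

theorem rho_mem (g : SB) : rho hF g ∈ Cfsg.GU 3 F 5 ⊓ Cfsg.Geo.specialLinear (Fin 3) F := by
  refine gen_induction (p := fun g => rho hF g ∈ _) ?_ ?_ g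
  · rw [map_one]; exact one_mem _
  · intro x hx s hs
    rw [map_mul]
    exact mul_mem hx (gen_mem hF hs)

/-- The matrices of nine elements of the Borel subgroup span. -/
theorem rho_span (X : MM) : X ∈ Submodule.span F
    (Set.range fun w : ℕ × ℕ => (rho hF (rA ^ w.1 * bA ^ w.2) : MM)) := by
  have hE : ∀ i j : Fin 3, Matrix.single i j (1 : F) ∈ Submodule.span F
      (Set.range fun w : ℕ × ℕ => (rho hF (rA ^ w.1 * bA ^ w.2) : MM)) := by
    intro i j
    set u := 3 * i.val + j.val with hu
    have hu9 : u < 9 := by omega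
    have hmem : ∀ k < 9, imM hF (spanIdx.getD k 0) ∈ Submodule.span F
        (Set.range fun w : ℕ × ℕ => (rho hF (rA ^ w.1 * bA ^ w.2) : MM)) := by
      intro k hk
      refine Submodule.subset_span ⟨spanWord.getD k (0, 0), ?_⟩
      have h := List.all_eq_true.1 spanWord_ok k (List.mem_range.2 hk)
      simp only [Bool.and_eq_true] at h
      obtain ⟨⟨h1, h2⟩, h3⟩ := h
      have h1' : (spanWord.getD k (0, 0)).1 < 7 := Nat.le_of_ble_eq_true h1
      have h2' : (spanWord.getD k (0, 0)).2 < 3 := Nat.le_of_ble_eq_true h2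
      have hk' : spanIdx.getD k 0 < 168 :=
        Nat.le_of_ble_eq_true (List.all_eq_true.1 span_ok.2 k (List.mem_range.2 hk))
      show (rho hF _ : MM) = _
      rw [rho_val]
      congr 1
      rw [← pl_sl hk']
      congr 1
      refine code_inj ?_
      rw [code_sl hk', Nat.eq_of_beq_eq_true h3, code_mul, code_rA_pow, Nat.mod_eq_of_lt h1']
      congr 1
      generalize (spanWord.getD k (0, 0)).2 = e at h2' ⊢
      interval_cases e
      · rw [pow_zero, code_one]; rfl
      · rw [pow_one, bA, tw_spec (by norm_num)]; rfl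
      · rw [pow_two, code_mul, bA, tw_spec (by norm_num)]; rfl
    have hsum : Matrix.single i j (1 : F) = ∑ k ∈ Finset.range 9,
        UThreeFive.φ hF ((spanCoef.getD u []).getD k 0) • imM hF (spanIdx.getD k 0) := by
      ext a b
      have h := congrArg (UThreeFive.φ hF) (Nat.eq_of_beq_eq_true (List.all_eq_true.1 (List.all_eq_true.1
        (List.all_eq_true.1 span_ok.1 u (List.mem_range.2 hu9)) a.val (List.mem_range.2 a.2)) b.val
        (List.mem_range.2 b.2)))
      have hfold : ∀ m, UThreeFive.φ hF ((List.range m).foldl (fun s k => addC s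
          (mulC ((spanCoef.getD u []).getD k 0) (im (spanIdx.getD k 0) a b))) 0) = ∑ k ∈ Finset.range m,
            UThreeFive.φ hF ((spanCoef.getD u []).getD k 0) * UThreeFive.φ hF (im (spanIdx.getD k 0) a b) := by
        intro m
        induction m with
        | zero => simpa using UThreeFive.φ_zero hF
        | succ m ih =>
          rw [List.range_succ, List.foldl_append, Finset.sum_range_succ, ← ih]
          simp only [List.foldl_cons, List.foldl_nil, UThreeFive.φ_add, UThreeFive.φ_mul]
      rw [entS, hfold, φ_five_ite hF] at h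
      simp only [Matrix.sum_apply, Matrix.smul_apply, smul_eq_mul]
      show _ = ∑ k ∈ Finset.range 9, _ * UThreeFive.φ hF (im (spanIdx.getD k 0) a b)
      rw [h, Matrix.single_apply, hu]
      exact if_congr ⟨fun ⟨e₁, e₂⟩ => by rw [e₁, e₂], fun e => ⟨Fin.ext (by omega), Fin.ext (by omega)⟩⟩ rfl rfl
    rw [hsum]
    exact Submodule.sum_mem _ fun k hk => Submodule.smul_mem _ _ (hmem k (Finset.mem_range.1 hk))
  rw [Matrix.matrix_eq_sum_single X]
  refine Submodule.sum_mem _ fun i _ => Submodule.sum_mem _ fun j _ => ?_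
  rw [show Matrix.single i j (X i j) = X i j • Matrix.single i j (1 : F) by rw [Matrix.smul_single, smul_eq_mul, mul_one]]
  exact Submodule.smul_mem _ _ (hE i j)

include hF in
/-- The roots of the trace polynomial differ from the other traces. -/
theorem trace_ne {t : F} (ht : t * t + t + 2 = 0) : t ≠ 3 ∧ t ≠ -1 ∧ t ≠ 0 ∧ t ≠ 1 ∧ t ≠ -1 - t := by
  haveI := UThreeFive.charP_five hF
  have hn : ∀ m : ℕ, m % 5 ≠ 0 → (m : F) ≠ 0 := fun m hm h =>
    hm (Nat.mod_eq_zero_of_dvd ((CharP.cast_eq_zero_iff F 5 m).1 h))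
  refine ⟨?_, ?_, ?_, ?_, ?_⟩ <;> intro e
  · subst e; exact hn 14 (by norm_num) (by linear_combination ht)
  · subst e; exact hn 2 (by norm_num) (by linear_combination ht)
  · subst e; exact hn 2 (by norm_num) (by linear_combination ht)
  · subst e; exact hn 4 (by norm_num) (by linear_combination ht)
  · exact hn 7 (by norm_num) (by push_cast; linear_combination 4 * ht - (2 * t + 1) * e)

/-- The traces at the representatives. -/
def repTrace (t : F) (k : ℕ) : F := [3, -1, 0, 1, t, -1 - t].getD k 0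

include hF in
theorem traces {ψ : SB →* GL (Fin 3) F} (hψ : Function.Injective ψ) (hd : ∀ g, DetOne (ψ g)) :
    tr (ψ rA) * tr (ψ rA) + tr (ψ rA) + 2 = 0 ∧
      ∀ (y : SB) (k : ℕ), k < 6 → tr (ψ (y * slB (reps.getD k 0) * y⁻¹)) = repTrace (tr (ψ rA)) k := by
  haveI := UThreeFive.charP_five hF
  haveI : Fact (Nat.Prime 5) := ⟨by norm_num⟩
  have hne : ∀ {g : SB}, g ≠ 1 → ψ g ≠ 1 := fun h e => h (hψ (by rw [e, map_one]))
  have hc : ψ bA * ψ rA * (ψ bA)⁻¹ = ψ rA * ψ rA := by
    rw [← map_inv, ← map_mul, ← map_mul, bA_rA, mul_inv_cancel_right, pow_two, map_mul]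
  obtain ⟨hsum, hprod⟩ := seven_relation (hd rA) (by rw [← map_pow, rA_pow_seven, map_one]) hc
    (by norm_num : (5 : ℕ) ≠ 7) (hne rA_ne_one)
  refine ⟨by linear_combination (tr (ψ rA) + 0) * hsum - hprod, fun y k hk => ?_⟩
  rw [map_mul, map_mul, map_inv, tr_conj]
  have invol : ∀ {x : SB}, x * x = 1 → x ≠ 1 → tr (ψ x) = -1 := by
    intro x hx hx1
    have hinv : (ψ x)⁻¹ = ψ x := inv_eq_of_mul_eq_one_left (by rw [← map_mul, hx, map_one])
    have r := tr_sq (hd x)
    rw [← map_mul, hx, map_one, tr_one, hinv] at r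
    have : (tr (ψ x) - 3) * (tr (ψ x) + 1) = 0 := by linear_combination -r
    rcases mul_eq_zero.1 this with h | h
    · exact absurd (eq_one_of_tr (p := 5) (hd x) (n := 2) (by rw [← map_pow, pow_two, hx, map_one])
        (by norm_num) (sub_eq_zero.1 h) (by rw [hinv]; exact sub_eq_zero.1 h)) (hne hx1)
    · linear_combination h
  have real : ∀ {x w : SB}, w * x * w⁻¹ = x⁻¹ → tr (ψ x)⁻¹ = tr (ψ x) := by
    intro x w hw
    rw [← map_inv, ← hw, map_mul, map_mul, map_inv, tr_conj]
  interval_cases k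
  · rw [rep_zero, map_one, tr_one]; rfl
  · exact invol rep_two.1 rep_two.2
  · obtain ⟨h3, h1, hw⟩ := rep_three
    set x := slB (reps.getD 2 0)
    have r := tr_sq (hd x)
    rw [real hw, ← map_mul, show x * x = x⁻¹ from eq_inv_of_mul_eq_one_left (by rw [← pow_two, ← pow_succ, h3]),
      map_inv, real hw] at r
    have : (tr (ψ x) - 3) * tr (ψ x) = 0 := by linear_combination -r
    rcases mul_eq_zero.1 this with h | h
    · exact absurd (eq_one_of_tr (p := 5) (hd x) (n := 3) (by rw [← map_pow, h3, map_one])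
        (by norm_num) (sub_eq_zero.1 h) (by rw [real hw]; exact sub_eq_zero.1 h)) (hne h1)
    · exact h
  · obtain ⟨h4, h2, hw⟩ := rep_four
    set x := slB (reps.getD 3 0)
    have r := tr_sq (hd x)
    rw [real hw, ← map_mul, invol (x := x * x) (by rw [← pow_two, ← pow_two, ← pow_mul, h4]) h2] at r
    have : (tr (ψ x) - 1) * (tr (ψ x) - 1) = 0 := by linear_combination -r
    exact sub_eq_zero.1 (mul_self_eq_zero.1 this)
  · rfl
  · rw [← rA_inv, map_inv]
    show tr (ψ rA)⁻¹ = -1 - tr (ψ rA)
    linear_combination hsum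

include hF in
theorem eq_trace {ψ ψ' : SB →* GL (Fin 3) F} (hψ : Function.Injective ψ) (hd : ∀ g, DetOne (ψ g))
    (hψ' : Function.Injective ψ') (hd' : ∀ g, DetOne (ψ' g)) (h : tr (ψ rA) = tr (ψ' rA)) (g : SB) :
    tr (ψ g) = tr (ψ' g) := by
  obtain ⟨y, k, hk, rfl⟩ := conj_rep g
  rw [(traces hF hψ hd).2 y k hk, (traces hF hψ' hd').2 y k hk, h]

end Cfsg.Lib.MitchellThree.Residual.SevenFive
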