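import Cfsg.Agent.MitchellThree.Residual.SevenFive.Rep

/-!
The stabiliser of the set of points as a matrix group, containing the group of order 168.
-/

set_option autoImplicit false
set_option maxRecDepth 100000
set_option linter.style.haveILetI false
set_option linter.unusedSectionVars false

namespace Cfsg.Lib.MitchellThree.Residual.SevenFive

open Matrix Cert Cfsg.Lib.Known Cfsg.Lib.Classical
open Cfsg.Lib.Known.UThreeFive.Cert (addC mulC cjC coord sets)
open scoped MatrixGroups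

universe u

variable {F : Type u} [Field F] [Fintype F] (hF : Fintype.card F = 5 ^ 2)

local notation "SB" => Matrix.SpecialLinearGroup (Fin 3) (ZMod 2)
local notation "MM" => Matrix (Fin 3) (Fin 3) F

/-- Special isometries as matrices. -/
noncomputable def iota : (UThreeFive.HS hF).SIsom →* GL (Fin 3) F :=
  (unitToGL hF).comp (UThreeFive.HS hF).SIsom.subtype

theorem iota_injective : Function.Injective (iota hF) :=
  (unitToGL_injective hF).comp Subtype.val_injective

theorem iota_range {g : GL (Fin 3) F} (hg : g ∈ Cfsg.GU 3 F 5 ⊓ Cfsg.Geo.specialLinear (Fin 3) F) :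
    ∃ s, iota hF s = g := by
  obtain ⟨h1, h2⟩ := hg
  rw [← range_unitToGL hF] at h1
  obtain ⟨s, hs⟩ := h1
  refine ⟨⟨s, ?_⟩, hs⟩
  rw [HermSpace.SIsom, MonoidHom.mem_ker, ← det_unitToGL, hs]
  exact MonoidHom.mem_ker.1 h2

theorem iota_mem (s : (UThreeFive.HS hF).SIsom) :
    iota hF s ∈ Cfsg.GU 3 F 5 ⊓ Cfsg.Geo.specialLinear (Fin 3) F := by
  refine ⟨?_, MonoidHom.mem_ker.2 ?_⟩
  · rw [← range_unitToGL hF]
    exact ⟨s.1, rfl⟩
  · show Matrix.GeneralLinearGroup.det (unitToGL hF s.1) = 1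
    rw [det_unitToGL]
    exact MonoidHom.mem_ker.1 s.2

theorem iota_mulVec (s : (UThreeFive.HS hF).SIsom) (x : Fin 3 → F) : (iota hF s : MM) *ᵥ x = s.1.1 x :=
  unitToGL_mulVec hF s.1 x

/-- The stabiliser. -/
noncomputable def stab : Subgroup (GL (Fin 3) F) := (UThreeFive.setStab hF).map (iota hF)

theorem mem_stab {g : GL (Fin 3) F} (hg : g ∈ Cfsg.GU 3 F 5 ⊓ Cfsg.Geo.specialLinear (Fin 3) F)
    (h : ∀ x ∈ UThreeFive.T hF 0, (g : MM) *ᵥ x ∈ UThreeFive.T hF 0) : g ∈ stab hF := by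
  obtain ⟨s, rfl⟩ := iota_range hF hg
  refine ⟨s, ?_, rfl⟩
  show s.1.1 '' UThreeFive.T hF 0 = UThreeFive.T hF 0
  refine Set.eq_of_subset_of_ncard_le ?_ ?_ (Set.toFinite _)
  · rintro _ ⟨x, hx, rfl⟩
    rw [← iota_mulVec hF]
    exact h x hx
  · rw [Set.ncard_image_of_injective _ s.1.1.injective]

theorem stab_le : stab hF ≤ Cfsg.GU 3 F 5 ⊓ Cfsg.Geo.specialLinear (Fin 3) F := by
  rintro _ ⟨s, -, rfl⟩
  exact iota_mem hF s

theorem exists_not_stab : ∃ g ∈ Cfsg.GU 3 F 5 ⊓ Cfsg.Geo.specialLinear (Fin 3) F, g ∉ stab hF := by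
  refine ⟨iota hF (UThreeFive.gT hF 0), iota_mem hF _, ?_⟩
  rintro ⟨s, hs, e⟩
  rw [iota_injective hF e] at hs
  exact UThreeFive.gT_zero_image hF hs

theorem card_stab : 7560 ≤ Nat.card (stab hF) := by
  rw [stab, Nat.card_congr ((UThreeFive.setStab hF).equivMapOfInjective _ (iota_injective hF)).toEquiv.symm]
  have h := (UThreeFive.setStab hF).card_mul_index
  rw [UThreeFive.card_S hF] at h
  have h' := Nat.mul_le_mul_left (Nat.card (UThreeFive.setStab hF)) (UThreeFive.index_setStab hF)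
  omega

theorem scalar_mem {g : GL (Fin 3) F} (hg : g ∈ Cfsg.GU 3 F 5 ⊓ Cfsg.Geo.specialLinear (Fin 3) F) {a : F}
    (ha : (g : MM) = a • (1 : MM)) : g ∈ stab hF := by
  refine mem_stab hF hg fun x hx => ?_
  obtain ⟨i, hi, hb, t, ht, rfl⟩ := hx
  refine ⟨i, hi, hb, a * t, mul_ne_zero (fun e => ?_) ht, by rw [ha, Matrix.smul_mulVec, Matrix.one_mulVec, smul_smul]⟩
  have := congrArg Matrix.det ha
  rw [e, zero_smul, Matrix.det_zero] at this
  exact g.det_ne_zero this

theorem rho_stab (g : SB) : rho hF g ∈ stab hF := by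
  refine gen_induction (p := fun g => rho hF g ∈ stab hF) ?_ ?_ g
  · rw [map_one]; exact one_mem _
  intro x hx s hs
  rw [map_mul]
  refine mul_mem hx (mem_stab hF (gen_mem hF hs) ?_)
  rintro _ ⟨i, hi, hb, t, ht, rfl⟩
  have h := List.all_eq_true.1 (List.all_eq_true.1 stab_ok s (List.mem_range.2 hs)) i (List.mem_range.2 hi)
  simp only [Bool.or_eq_true, Bool.not_eq_true', Bool.and_eq_true, hb, Bool.true_eq_false, false_or] at h
  obtain ⟨⟨⟨⟨h1, h2⟩, h3⟩, h4⟩, h5⟩ := h
  have hlam : UThreeFive.φ hF (ptImg s i / 1024) ≠ 0 := fun e =>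
    absurd (UThreeFive.φ_inj hF (Nat.le_of_ble_eq_true h4) (by norm_num : 0 < 25) (e.trans (UThreeFive.φ_zero hF).symm))
      (Nat.pos_iff_ne_zero.1 (Nat.le_of_ble_eq_true h3))
  refine ⟨ptImg s i % 1024, Nat.le_of_ble_eq_true h1, h2, t * UThreeFive.φ hF (ptImg s i / 1024),
    mul_ne_zero ht hlam, ?_⟩
  rw [Matrix.mulVec_smul, rho_val, pl_gen hs, mul_smul]
  congr 1
  funext k
  have h' := congrArg (UThreeFive.φ hF) (Nat.eq_of_beq_eq_true (List.all_eq_true.1 h5 k.val (List.mem_range.2 k.2)))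
  rw [entV, UThreeFive.φ_add, UThreeFive.φ_add, UThreeFive.φ_mul, UThreeFive.φ_mul, UThreeFive.φ_mul,
    UThreeFive.φ_mul] at h'
  show (imM hF (genPlace s) *ᵥ UThreeFive.vec hF i) k = _ * _
  rw [Matrix.mulVec, dotProduct, Fin.sum_univ_three]
  exact h'

include hF in
/-- Norms meet every non-zero element of the prime field. -/
theorem exists_norm {c : F} (hc : c ^ 5 = c) (h0 : c ≠ 0) : ∃ d : F, d * d ^ 5 * c = 1 := by
  classical
  have hsur : Function.Surjective fun x : Fin 25 => UThreeFive.φ hF x.val :=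
    ((Fintype.bijective_iff_injective_and_card _).2 ⟨fun a b e => Fin.ext (UThreeFive.φ_inj hF a.2 b.2 e),
      by rw [Fintype.card_fin, hF]; norm_num⟩).2
  obtain ⟨x, rfl⟩ := hsur c
  have h := List.all_eq_true.1 norm_ok x.val (List.mem_range.2 x.2)
  simp only [Bool.or_eq_true, Bool.not_eq_true', List.any_eq_true, List.mem_range] at h
  rcases h with (h | h) | ⟨d, -, h⟩
  · exfalso
    rw [← Bool.not_eq_true] at h
    refine h ?_
    have : cjC x.val = x.val := UThreeFive.φ_inj hF (by simp only [cjC]; omega) x.2 (by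
      rw [UThreeFive.φ_cj, UThreeFive.σ_apply hF]; exact hc)
    rw [this]; simp
  · exact absurd (by simp only [Nat.eq_of_beq_eq_true h]; exact UThreeFive.φ_zero hF) h0
  · refine ⟨UThreeFive.φ hF d, ?_⟩
    have h' := congrArg (UThreeFive.φ hF) (Nat.eq_of_beq_eq_true h)
    rwa [UThreeFive.φ_mul, UThreeFive.φ_mul, UThreeFive.φ_cj, UThreeFive.σ_apply hF, UThreeFive.φ_one] at h'

end Cfsg.Lib.MitchellThree.Residual.SevenFive
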